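import Groth.Agent.DimFormula.DimAdd
import Groth.Agent.VarDim.IrredFibres
import Groth.Agent.H23.Isogeny

/-!
# Fibre components of flat morphisms
-/

set_option autoImplicit false
set_option linter.style.haveILetI false

open AlgebraicGeometry CategoryTheory Order Topology

namespace Groth.Agent.DimFormula

universe u

variable {X Y : Scheme.{u}} (f : X ⟶ Y) [LocallyOfFiniteType f]

theorem rd_eq_fdeg (x : X) : FibDim.rd f x = VarDim.fdeg f x := by
  rw [FibDim.rd, VarDim.deg_fiber f (f x) (f.asFiber x), Scheme.Hom.fiberι_asFiber]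

/-- A component of a fibre has the dimension given by its generic point. -/
theorem dim_component_fiber {y : Y} {Z : Set ↥(f.fiber y)} (hZ : Z ∈ irreducibleComponents ↥(f.fiber y)) :
    ∃ z, f z = y ∧ FibDim.FibMax f z ∧ topologicalKrullDim ↥Z = ((FibDim.rd f z : ℕ∞) : WithBot ℕ∞) := by
  obtain ⟨w, rfl, hw⟩ := VarDim.exists_generic_of_component hZ
  refine ⟨f.fiberι y w, FibDim.fiber_apply_fiberι f w, (FibDim.fibMax_fiberι_iff f w).2 hw, ?_⟩
  rw [VarDim.topologicalKrullDim_closure_singleton (k := Y.residueField y) (f.fiberToSpecResidueField y),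
    FibDim.deg_fiber f y w]

/-- A maximal point of a fibre gives a component of it. -/
theorem exists_component_fiber {z : X} (hz : FibDim.FibMax f z) :
    ∃ Z ∈ irreducibleComponents ↥(f.fiber (f z)),
      topologicalKrullDim ↥Z = ((FibDim.rd f z : ℕ∞) : WithBot ℕ∞) := by
  rw [← Scheme.Hom.fiberι_asFiber f z] at hz
  refine ⟨closure {f.asFiber z},
    VarDim.closure_mem_irreducibleComponents (z := f.asFiber z) ((FibDim.fibMax_fiberι_iff f _).1 hz), ?_⟩
  rw [VarDim.topologicalKrullDim_closure_singleton (k := Y.residueField (f z)) (f.fiberToSpecResidueField (f z))]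
  rfl

variable [IsLocallyNoetherian Y] [Flat f]

theorem codim_map_le (z : X) : codim (f z) ≤ codim z := by
  haveI := LocallyOfFiniteType.isLocallyNoetherian f
  have h := H23.Isogeny.ringKrullDim_le_of_flat (f.stalkMap z).hom (Flat.stalkMap f z)
  rw [ringKrullDim_stalk, ringKrullDim_stalk] at h
  exact_mod_cast h

theorem maximal_map {η : X} (h : ∀ z, z ⤳ η → z = η) : ∀ y, y ⤳ f η → y = f η := by
  haveI := LocallyOfFiniteType.isLocallyNoetherian f
  exact codim_eq_zero_iff.1 (Nat.le_zero.1 ((codim_map_le f η).trans (codim_eq_zero_iff.2 h).le))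

/-- Through a maximal point of a fibre there is a component of `X` of the same relative dimension. -/
theorem exists_maximal_rd_eq {z : X} (hz : FibDim.FibMax f z) :
    ∃ η, η ⤳ z ∧ (∀ t, t ⤳ η → t = η) ∧ FibDim.rd f η = FibDim.rd f z := by
  haveI := LocallyOfFiniteType.isLocallyNoetherian f
  obtain ⟨η, hη, hmax, he⟩ := exists_maximal_cd_eq_codim z
  refine ⟨η, hη, hmax, le_antisymm ?_ ?_⟩
  · have := rd_le_of_specializes' f hη
    rwa [(fb_eq_zero_iff f z).2 hz, add_zero] at this
  · have h1 := (cd_formula f hη).1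
    have h2 := cd_le_codim (hη.map f.continuous)
    have h3 := codim_map_le f z
    omega

theorem equidim_iff {k : Type u} [Field k] (qX : X ⟶ Spec (CommRingCat.of k)) (qY : Y ⟶ Spec (CommRingCat.of k))
    [LocallyOfFiniteType qX] [LocallyOfFiniteType qY] (hf : f ≫ qY = qX) (d n : ℕ)
    (hY : ∀ Z ∈ irreducibleComponents (Y : Type u), topologicalKrullDim Z = (d : WithBot ℕ∞)) :
    (∀ Z ∈ irreducibleComponents (X : Type u), topologicalKrullDim Z = ((d + n : ℕ) : WithBot ℕ∞)) ↔
      ∀ (y : Y), ∀ Z ∈ irreducibleComponents (f.fiber y : Type u),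
        topologicalKrullDim Z = (n : WithBot ℕ∞) := by
  have hd : ∀ η : X, (∀ t, t ⤳ η → t = η) → VarDim.deg qX η = d + FibDim.rd f η := by
    intro η hη
    rw [VarDim.deg_eq_add f qY hf, rd_eq_fdeg]
    congr 1
    have h := hY _ (VarDim.closure_mem_irreducibleComponents (z := f η) (maximal_map f hη))
    rw [VarDim.topologicalKrullDim_closure_singleton qY] at h
    exact_mod_cast h
  constructor
  · intro h y Z hZ
    obtain ⟨z, -, hz, hdim⟩ := dim_component_fiber f hZ
    obtain ⟨η, -, hη, hrd⟩ := exists_maximal_rd_eq f hz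
    have h' := h _ (VarDim.closure_mem_irreducibleComponents (z := η) hη)
    rw [VarDim.topologicalKrullDim_closure_singleton qX, hd η hη] at h'
    have : d + FibDim.rd f η = d + n := by exact_mod_cast h'
    rw [hdim, ← hrd, show FibDim.rd f η = n by omega]
    rfl
  · intro h Z hZ
    obtain ⟨η, rfl, hη⟩ := VarDim.exists_generic_of_component hZ
    obtain ⟨W, hW, hdim⟩ := exists_component_fiber f (FibDim.fibMax_of_maximal f hη)
    rw [VarDim.topologicalKrullDim_closure_singleton qX, hd η hη]
    have h' := h _ W hW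
    rw [hdim] at h'
    have : FibDim.rd f η = n := by exact_mod_cast h'
    rw [this]
    rfl

end Groth.Agent.DimFormula
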