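import Groth.Agent.DimFormula.Criteria
import Groth.Agent.DimFormula.QuasiSection
import Groth.Agent.SchTop.Closed

/-!
# The dimension of the source of a morphism locally of finite type
-/

set_option autoImplicit false
set_option linter.style.haveILetI false

open AlgebraicGeometry CategoryTheory Order Topology

namespace Groth.Agent.DimFormula

universe u

theorem topDim_eq_krullDim (X : Scheme.{u}) : topologicalKrullDim ↥X = Order.krullDim ↥X :=
  krullDim_eq_of_orderIso irreducibleSetEquivPoints

theorem codim_le_dim {X : Scheme.{u}} [IsLocallyNoetherian X] (x : X) :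
    (((codim x : ℕ) : ℕ∞) : WithBot ℕ∞) ≤ topologicalKrullDim ↥X := by
  rw [topDim_eq_krullDim, coe_codim]
  exact coheight_le_krullDim x

theorem dim_le_of_codim {X : Scheme.{u}} [IsLocallyNoetherian X] {d : WithBot ℕ∞}
    (h : ∀ x : X, (((codim x : ℕ) : ℕ∞) : WithBot ℕ∞) ≤ d) : topologicalKrullDim ↥X ≤ d := by
  rw [topDim_eq_krullDim]
  exact iSup_le fun p => le_trans (WithBot.coe_le_coe.2 length_le_coheight_head)
    (by rw [← coe_codim]; exact h p.head)

variable {X Y : Scheme.{u}} (f : X ⟶ Y) [LocallyOfFiniteType f]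

theorem fb_le_dim_fiber (x : X) :
    (((fb f x : ℕ) : ℕ∞) : WithBot ℕ∞) ≤ topologicalKrullDim ↥(f.fiber (f x)) :=
  haveI := isLocallyNoetherian_fiber f (f x)
  codim_le_dim _

theorem exists_rd_eq_zero {y : Y} (h : y ∈ Set.range f) : ∃ x, f x = y ∧ FibDim.rd f x = 0 := by
  obtain ⟨x₀, rfl⟩ := h
  haveI := isLocallyNoetherian_fiber f (f x₀)
  obtain ⟨z, -, hz⟩ := SchTop.exists_isClosed_specializes (f.asFiber x₀)
  refine ⟨f.fiberι (f x₀) z, FibDim.fiber_apply_fiberι f z, rd_eq_zero_of_closed f fun x' hx' hsp => ?_⟩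
  obtain ⟨b, rfl⟩ : x' ∈ Set.range (f.fiberι (f x₀)) := by
    rw [Scheme.Hom.range_fiberι]
    exact hx'.trans (FibDim.fiber_apply_fiberι f z)
  have hzb : z ⤳ b := (f.fiberι (f x₀)).isEmbedding.isInducing.specializes_iff.1 hsp
  rw [show b = z from hzb.mem_closed hz rfl]

variable [IsLocallyNoetherian Y] [IrreducibleSpace X] [IrreducibleSpace Y] [IsDominant f]

/-- The dimension formula relative to the generic point. -/
theorem codim_formula (x : X) :
    haveI := LocallyOfFiniteType.isLocallyNoetherian f
    codim x + FibDim.rd f x ≤ codim (f x) + FibDim.rd f (genericPoint X) ∧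
      (CAlg.IsUniversallyCatenary (Y.presheaf.stalk (f x)) →
        codim x + FibDim.rd f x = codim (f x) + FibDim.rd f (genericPoint X)) := by
  haveI := LocallyOfFiniteType.isLocallyNoetherian f
  have h := cd_formula f ((genericPoint_spec X).specializes (Set.mem_univ x))
  rwa [(generic_fibre_dim f).1, cd_eq_codim_of_irreducible, cd_eq_codim_of_irreducible] at h

/-- `dim X = sup_{y ∈ f(X)} dim O_y + e` over a universally catenary base. -/
theorem dim_eq_add (hY : ∀ y : Y, CAlg.IsUniversallyCatenary (Y.presheaf.stalk y)) :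
    topologicalKrullDim ↥X = (⨆ y ∈ Set.range f, ((codim y : ℕ∞) : WithBot ℕ∞)) +
      ((FibDim.rd f (genericPoint X) : ℕ∞) : WithBot ℕ∞) := by
  haveI := LocallyOfFiniteType.isLocallyNoetherian f
  refine le_antisymm (dim_le_of_codim fun x => ?_) ?_
  · refine le_trans ?_ (add_le_add (le_iSup₂_of_le (f x) ⟨x, rfl⟩ le_rfl) le_rfl)
    have := (codim_formula f x).1
    exact_mod_cast (show codim x ≤ codim (f x) + FibDim.rd f (genericPoint X) by omega)
  · have key : ∀ y ∈ Set.range f,
        (((codim y + FibDim.rd f (genericPoint X) : ℕ) : ℕ∞) : WithBot ℕ∞) ≤ topologicalKrullDim ↥X := by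
      intro y hy
      obtain ⟨x, rfl, hrd⟩ := exists_rd_eq_zero f hy
      have := (codim_formula f x).2 (hY _)
      rw [hrd, add_zero] at this
      rw [← this]
      exact codim_le_dim x
    obtain ⟨D, hD⟩ : ∃ D : ℕ∞, topologicalKrullDim ↥X = (D : WithBot ℕ∞) := by
      have h := codim_le_dim (genericPoint X)
      rcases hd : topologicalKrullDim ↥X with _ | D
      · rw [hd] at h; exact absurd (le_bot_iff.1 h) WithBot.coe_ne_bot
      · exact ⟨D, rfl⟩
    rw [hD] at key ⊢
    induction D with
    | top => exact le_top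
    | coe d =>
      have he : FibDim.rd f (genericPoint X) ≤ d := by
        have := key _ ⟨genericPoint X, rfl⟩
        have : codim (f (genericPoint X)) + FibDim.rd f (genericPoint X) ≤ d := by exact_mod_cast this
        omega
      refine le_trans (add_le_add (iSup₂_le (a := (((d - FibDim.rd f (genericPoint X) : ℕ) : ℕ∞) : WithBot ℕ∞))
        fun y hy => ?_) le_rfl) ?_
      · have : codim y + FibDim.rd f (genericPoint X) ≤ d := by exact_mod_cast key y hy
        exact_mod_cast (show codim y ≤ d - FibDim.rd f (genericPoint X) by omega)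
      · exact_mod_cast (show d - FibDim.rd f (genericPoint X) + FibDim.rd f (genericPoint X) ≤ d by omega)

end Groth.Agent.DimFormula
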